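import Mathlib

/-!
# Subgroups of odd index contain the 2-subgroups above them
-/

set_option autoImplicit false

namespace Cfsg.Agent.KFacts.TwFrame.Syl

variable {G : Type*} [Group G]

theorem le_of_odd {H : Type*} [Group H] [Finite H] {U P : Subgroup H} (hU : Odd U.index) (hP : IsPGroup 2 P)
    (hUP : U ≤ P) : P ≤ U := by
  rw [← Subgroup.relIndex_eq_one]
  have h1 : U.relIndex P ∣ U.index := Subgroup.relIndex_dvd_index_of_le hUP
  have h2 : U.relIndex P ∣ Nat.card P := Subgroup.relIndex_dvd_card U P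
  have : Fact (Nat.Prime 2) := ⟨Nat.prime_two⟩
  obtain ⟨k, hk⟩ := hP.exists_card_eq
  rw [hk] at h2
  obtain ⟨m, -, hm⟩ := (Nat.dvd_prime_pow Nat.prime_two).1 h2
  rcases Nat.eq_zero_or_pos m with rfl | hm0
  · simpa using hm
  · exfalso
    have h3 : 2 ∣ U.index := dvd_trans (by rw [hm]; exact dvd_pow_self 2 (by omega)) h1
    exact (Nat.not_even_iff_odd.2 hU) (even_iff_two_dvd.2 h3)

theorem le_map_of_odd {H : Type*} [Group H] [Finite H] {j : H →* G} (inj : Function.Injective j)
    {U : Subgroup H} (hU : Odd U.index) {P : Subgroup G} (hP : IsPGroup 2 P) (hUP : U.map j ≤ P) (hPK : P ≤ j.range) :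
    P ≤ U.map j := by
  have h1 : P = (P.comap j).map j := by
    rw [Subgroup.map_comap_eq, inf_eq_right.2 hPK]
  have h2 : IsPGroup 2 (P.comap j) := hP.comap_of_injective j inj
  rw [h1]
  exact Subgroup.map_mono (le_of_odd hU h2 (Subgroup.map_le_iff_le_comap.1 hUP))

/-- An element `x` of order two of `K` which normalises the Sylow 2-subgroup `U` of `K = j.range` lies in `U`. -/
theorem mem_of_norm {H : Type*} [Group H] [Finite H] {j : H →* G} (inj : Function.Injective j)
    {U : Subgroup H} (hU : Odd U.index) (h2 : IsPGroup 2 U) {x : G} (hx : x ∈ j.range) (hxx : x * x = 1)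
    (hn : ∀ u ∈ U.map j, x * u * x⁻¹ ∈ U.map j) : x ∈ U.map j := by
  have hxi : x⁻¹ = x := inv_eq_of_mul_eq_one_left hxx
  have hn' : Subgroup.zpowers x ≤ Subgroup.normalizer ((U.map j : Subgroup G) : Set G) := by
    rw [Subgroup.zpowers_le, Subgroup.mem_normalizer_iff]
    intro u
    refine ⟨fun h => hn u h, fun h => ?_⟩
    have h3 := hn _ h
    have h4 : x * (x * u * x⁻¹) * x⁻¹ = u := by
      rw [hxi]
      calc x * (x * u * x) * x = (x * x) * u * (x * x) := by group
        _ = u := by rw [hxx, one_mul, mul_one]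
    rwa [h4] at h3
  have hP : IsPGroup 2 ↥((U.map j) ⊔ Subgroup.zpowers x : Subgroup G) := by
    have h3 : IsPGroup 2 ↥(Subgroup.zpowers x) := by
      rintro ⟨y, hy⟩
      obtain ⟨k, rfl⟩ := Subgroup.mem_zpowers_iff.1 hy
      refine ⟨1, Subtype.ext ?_⟩
      rw [Subgroup.coe_pow, Subgroup.coe_one, pow_one, pow_two, ← zpow_add, ← two_mul, zpow_mul, zpow_two, hxx,
        one_zpow]
    exact IsPGroup.to_sup_of_normal_left' (h2.map j) h3 hn'
  exact le_map_of_odd inj hU hP le_sup_left (sup_le (by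
    rw [MonoidHom.range_eq_map]; exact Subgroup.map_mono le_top) (by rw [Subgroup.zpowers_le]; exact hx))
    (Subgroup.mem_sup_right (Subgroup.mem_zpowers _))

end Cfsg.Agent.KFacts.TwFrame.Syl
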