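import Cfsg.Agent.KFacts.TwFrame.OTrans
import Cfsg.Agent.KFacts.TwFrame.Syl
import Cfsg.Agent.OddHalf.Orth.Face
import Cfsg.Agent.OddHalf.Orth.KFlagMain
import Cfsg.Agent.OddHalf.D7Out.TwFrame

/-!
# The frame of `Ω(V)` (D7, outer 2-part): `FrameFact` for `O⁻`

`frR h : Fin n ⊕ Fin n → Subgroup ↥(E Q)` : the root groups `R (e i)`, `R (f i)` of a flag `h : Flag Q n e f`.
`frameFact` : `FrameFact (frR h) (UK Q e f n)` if the flag does not span `V` (`2 n < dim V`); `frameFact_minus`.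
`YR h t j` : the elements of `C(t)` normalising every `j (R (e i))`, `j (R (f i))`; `hyp_minus` :
`TwChoice.Hyp t v j.range (YR h t j) (U.map j)`.
-/

set_option autoImplicit false

namespace Cfsg.Agent.KFacts.TwFrame.OFact

open QuadraticMap Cfsg.Agent.LieClassical.OrthCore Cfsg.Agent.LieClassical.OrthTrans Cfsg.Agent.OddHalf.Orth
  Cfsg.Agent.LieClassical.OrthForms
  Cfsg.Agent.OddHalf.Orth.SitOf Cfsg.Agent.OddHalf.Orth.FlagDef Cfsg.Agent.OddHalf.Orth.Face
  Cfsg.Agent.ClassicalGeometry.OrthAutBasic Cfsg.Agent.ClassicalGeometry.OrthAutRoot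
  Cfsg.Agent.KFacts.TwFrame.OTrans Cfsg.Agent.OddHalf.D7Out Cfsg.Agent.OddHalf.D7Out.TwFrame

variable {F V : Type*} [Field F] [AddCommGroup V] [Module F V] {Q : QuadraticForm F V}

/-! ### Semilinear isometries -/

theorem polar_map {M : V ≃+ V} {σ : F ≃+* F} (h : Sem Q M σ) (v w : V) :
    polar Q (M v) (M w) = σ (polar Q v w) := by
  simp only [polar, ← map_add, h.iso, map_sub]

/-- An element of `E Q` as a semilinear isometry. -/
theorem sem_of (k : ↥(E Q)) : Sem Q (k : V ≃ₗ[F] V).toAddEquiv (RingEquiv.refl F) := by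
  constructor
  · intro a v
    exact (k : V ≃ₗ[F] V).map_smul a v
  · intro v
    exact Q_map k v

/-- The double perpendicular of a singular vector. -/
theorem smul_of_perp (hQ : Nondeg Q) {u u' w : V} (h : Hyp Q u u')
    (hw : ∀ x, polar Q u x = 0 → polar Q w x = 0) : ∃ c : F, w = c • u := by
  refine ⟨polar Q w u', ?_⟩
  rw [← sub_eq_zero]
  refine hQ _ fun v => ?_
  have h1 : polar Q w (v - polar Q u v • u') = 0 := hw _ (by
    rw [sub_eq_add_neg, ← neg_smul, polar_add_right, polar_smul_right, h.pair, smul_eq_mul]; ring)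
  rw [sub_eq_add_neg, ← neg_smul, polar_add_right, polar_smul_right, smul_eq_mul] at h1
  rw [sub_eq_add_neg, ← neg_smul, polar_add_left, polar_smul_left, smul_eq_mul]
  linear_combination h1

/-- A semilinear isometry which maps `R u` into `R u` fixes the point `⟨u⟩`. -/
theorem point_of_R [CharP F 2] (hQ : Nondeg Q) {M : V ≃+ V} {σ : F ≃+* F} (hs : Sem Q M σ) {u u' x0 : V}
    (h : Hyp Q u u') (hx0 : polar Q u x0 = 0) (hx0' : ∀ c : F, x0 ≠ c • u)
    (hR : ∀ x, polar Q u x = 0 → ∃ y, polar Q u y = 0 ∧ tE Q (M u) (M x) = tE Q u y) :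
    ∃ c : F, c ≠ 0 ∧ M u = c • u := by
  have hMu : Q (M u) = 0 := by rw [hs.iso, h.left, map_zero]
  have h1 : ∀ x, polar Q u x = 0 →
      polar Q (M u) u • M x + (polar Q (M x) u + Q (M x) * polar Q (M u) u) • M u = 0 := by
    intro x hx
    obtain ⟨y, hy, he⟩ := hR x hx
    have hMx : polar Q (M u) (M x) = 0 := by rw [polar_map hs, hx, map_zero]
    have h2 := congrArg (fun g : ↥(E Q) => (g : V ≃ₗ[F] V) u) he
    simp only [coe_tE] at h2
    rw [T_apply2 hMu hMx, T_apply2 h.left hy, polar_self2, sym y u, hy] at h2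
    have h3 : polar Q (M u) u • M x + (polar Q (M x) u + Q (M x) * polar Q (M u) u) • M u =
        (u + polar Q (M u) u • M x + (polar Q (M x) u + Q (M x) * polar Q (M u) u) • M u) - u := by abel
    rw [h3, h2]
    simp
  have hu0 : u ≠ 0 := by
    rintro rfl
    have := h.pair
    rw [polar_zero_left] at this
    exact zero_ne_one this
  have hMu0 : M u ≠ 0 := fun h0 => hu0 (M.injective (by rw [h0, map_zero]))
  have hp : polar Q (M u) u = 0 := by
    by_contra hp
    have h2 := h1 x0 hx0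
    have h3 : M x0 = (-(polar Q (M u) u)⁻¹ * (polar Q (M x0) u + Q (M x0) * polar Q (M u) u)) • M u := by
      have h4 : M x0 = (polar Q (M u) u)⁻¹ • (polar Q (M u) u • M x0) := by
        rw [smul_smul, inv_mul_cancel₀ hp, one_smul]
      rw [eq_neg_of_add_eq_zero_left h2, ← neg_smul, smul_smul] at h4
      rw [neg_mul, ← mul_neg]
      exact h4
    refine hx0' (σ.symm (-(polar Q (M u) u)⁻¹ * (polar Q (M x0) u + Q (M x0) * polar Q (M u) u))) (M.injective ?_)
    rw [hs.smul, RingEquiv.apply_symm_apply]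
    exact h3
  have h2 : ∀ x, polar Q u x = 0 → polar Q (M.symm u) x = 0 := by
    intro x hx
    have h3 := h1 x hx
    rw [hp, zero_smul, zero_add, mul_zero, add_zero] at h3
    have h4 : polar Q (M x) u = 0 := (smul_eq_zero.1 h3).resolve_right hMu0
    apply σ.injective
    rw [← polar_map hs, AddEquiv.apply_symm_apply, sym, h4, map_zero]
  obtain ⟨c, hc⟩ := smul_of_perp hQ h h2
  have h3 : u = σ c • M u := by
    rw [← hs.smul, ← hc, AddEquiv.apply_symm_apply]
  have hc0 : σ c ≠ 0 := by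
    intro h0
    rw [h0, zero_smul] at h3
    exact hu0 h3
  exact ⟨(σ c)⁻¹, inv_ne_zero hc0, by
    calc M u = (σ c)⁻¹ • (σ c • M u) := by rw [smul_smul, inv_mul_cancel₀ hc0, one_smul]
      _ = (σ c)⁻¹ • u := by rw [← h3]⟩

/-! ### The frame -/

/-- the root groups of the frame -/
noncomputable def frR {n : ℕ} {e f : ℕ → V} (h : Flag Q n e f) : Fin n ⊕ Fin n → Subgroup ↥(E Q) :=
  Sum.elim (fun i => R Q (e i) (h.hyp i i.2).left) (fun i => R Q (f i) (h.hyp i i.2).right)

theorem mem_inl {n : ℕ} {e f : ℕ → V} (h : Flag Q n e f) {i : ℕ} (hi : i < n) {x : ↥(E Q)} :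
    x ∈ frR h (Sum.inl ⟨i, hi⟩) ↔ ∃ w, polar Q (e i) w = 0 ∧ x = tE Q (e i) w :=
  mem_R (hu := (h.hyp i hi).left)

theorem mem_inr {n : ℕ} {e f : ℕ → V} (h : Flag Q n e f) {i : ℕ} (hi : i < n) {x : ↥(E Q)} :
    x ∈ frR h (Sum.inr ⟨i, hi⟩) ↔ ∃ w, polar Q (f i) w = 0 ∧ x = tE Q (f i) w :=
  mem_R (hu := (h.hyp i hi).right)

theorem hyp_symm {u v : V} (h : Hyp Q u v) : Hyp Q v u := ⟨h.right, h.left, by rw [sym, h.pair]⟩

/-- The points of the frame, from the root groups. -/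
theorem points_of [CharP F 2] (hQ : Nondeg Q) {n : ℕ} {e f : ℕ → V} (h : Flag Q n e f) (hn : 2 ≤ n) {M : V ≃+ V}
    {σ : F ≃+* F} (hs : Sem Q M σ)
    (hR : ∀ i < n, (∀ x, polar Q (e i) x = 0 → ∃ y, polar Q (e i) y = 0 ∧ tE Q (M (e i)) (M x) = tE Q (e i) y) ∧
      ∀ x, polar Q (f i) x = 0 → ∃ y, polar Q (f i) y = 0 ∧ tE Q (M (f i)) (M x) = tE Q (f i) y) :
    ∀ i < n, (∃ c : F, c ≠ 0 ∧ M (e i) = c • e i) ∧ ∃ d : F, d ≠ 0 ∧ M (f i) = d • f i := by
  intro i hi
  obtain ⟨k, hk, hki⟩ : ∃ k, k < n ∧ k ≠ i := by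
    by_cases h0 : i = 0
    · exact ⟨1, by omega, by omega⟩
    · exact ⟨0, by omega, by omega⟩
  have h1 : ∀ c : F, e k ≠ c • e i := by
    intro c hc
    have h2 := (h.hyp k hk).pair
    rw [hc, polar_smul_left, h.ef i k hi hk (Ne.symm hki), smul_zero] at h2
    exact zero_ne_one h2
  have h2 : ∀ c : F, e k ≠ c • f i := by
    intro c hc
    have h2 := (h.hyp k hk).pair
    rw [hc, polar_smul_left, h.ff i k hi hk (Ne.symm hki), smul_zero] at h2
    exact zero_ne_one h2
  exact ⟨point_of_R hQ hs (h.hyp i hi) (x0 := e k) (h.ee i k hi hk (Ne.symm hki)) h1 (hR i hi).1,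
    point_of_R hQ hs (hyp_symm (h.hyp i hi)) (x0 := e k) (by rw [sym]; exact h.ef k i hk hi hki) h2 (hR i hi).2⟩

/-- A semilinear isometry which fixes the points of the frame normalises `UK`. -/
theorem norm_UK {n : ℕ} {e f : ℕ → V} (h : Flag Q n e f) {M : V ≃+ V} {σ : F ≃+* F} (hs : Sem Q M σ)
    (hp : ∀ i < n, (∃ c : F, c ≠ 0 ∧ M (e i) = c • e i) ∧ ∃ d : F, d ≠ 0 ∧ M (f i) = d • f i)
    {α : ↥(E Q) →* ↥(E Q)} (hα : ∀ u x, Q u = 0 → polar Q u x = 0 → α (tE Q u x) = tE Q (M u) (M x)) :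
    ∀ u ∈ UK Q e f n, α u ∈ UK Q e f n := by
  have h1 : UK Q e f n ≤ (UK Q e f n).comap α := by
    rw [UK, iSup_le_iff]
    intro i
    rw [iSup_le_iff]
    intro hi
    rw [RK, Subgroup.closure_le]
    rintro _ ⟨y, hy, rfl⟩
    obtain ⟨c, hc, hci⟩ := (hp i hi).1
    have hy1 : ∀ k ≤ i, polar Q (e k) (M y) = 0 ∧ polar Q (f k) (M y) = 0 := by
      intro k hk
      obtain ⟨⟨a, ha, hak⟩, b, hb, hbk⟩ := hp k (by omega)
      constructor
      · have h3 := polar_map hs (e k) y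
        rw [(hy k hk).1, map_zero, hak, polar_smul_left, smul_eq_mul] at h3
        exact (mul_eq_zero.1 h3).resolve_left ha
      · have h3 := polar_map hs (f k) y
        rw [(hy k hk).2, map_zero, hbk, polar_smul_left, smul_eq_mul] at h3
        exact (mul_eq_zero.1 h3).resolve_left hb
    rw [SetLike.mem_coe, Subgroup.mem_comap, hα (e i) y (h.hyp i hi).left (hy i le_rfl).1, hci,
      tE_smul_left c (h.hyp i hi).left (hy1 i le_rfl).1]
    refine Subgroup.mem_iSup_of_mem i (Subgroup.mem_iSup_of_mem hi (Subgroup.subset_closure ⟨c • M y, fun k hk => ?_, rfl⟩))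
    constructor
    · rw [polar_smul_right, (hy1 k hk).1, smul_zero]
    · rw [polar_smul_right, (hy1 k hk).2, smul_zero]
  exact fun u hu => h1 hu

/-! ### The flag group -/

open Cfsg.Agent.OddHalf.Orth.KFlag in
/-- An element of the flag group which fixes the `f i` is trivial. -/
theorem eq_one_of_UU [CharP F 2] {w : ℕ} (W : Cfsg.Agent.TitsThree.SiegelGen.WFrame (Cfsg.Agent.TitsThree.KSideO.PO Q) w) :
    ∀ d k : ℕ, k + d = w → ∀ g ∈ UU W k, (∀ i : Fin w, (g : V ≃ₗ[F] V) (W.f i) = W.f i) → g = 1 := by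
  intro d
  induction d with
  | zero =>
    intro k hk g hg _
    rw [UU_of_le W (by omega)] at hg
    exact hg
  | succ d ih =>
    intro k hk g hg hf
    have hkw : k < w := by omega
    have h1 : g ∈ ((RR W ⟨k, hkw⟩ ⊔ UU W (k + 1) : Subgroup ↥(E Q)) : Set ↥(E Q)) := by
      rw [← UU_succ W ⟨k, hkw⟩]
      exact hg
    rw [Subgroup.coe_mul_of_right_le_normalizer_left _ _ (UU_le_normalizer W ⟨k, hkw⟩), Set.mem_mul] at h1
    obtain ⟨r, hr, u, hu, rfl⟩ := h1
    obtain ⟨x, hx, rfl⟩ := (mem_RR W).1 hr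
    have h2 := (fix W hu (j := ⟨k, hkw⟩) (Nat.lt_succ_self _)).2
    have h3 := hf ⟨k, hkw⟩
    rw [Subgroup.coe_mul, LinearEquiv.mul_apply, h2, coe_tE] at h3
    have h4 : x = 0 := tE_inj W hx (Submodule.zero_mem _) (by rw [h3, T_zero_right]; rfl)
    rw [h4, tE_zero_right, one_mul] at hf ⊢
    exact ih (k + 1) (by omega) u hu hf

open Cfsg.Agent.OddHalf.Orth.KFlag in
theorem eq_one_of_UK [CharP F 2] {w : ℕ} (W : Cfsg.Agent.TitsThree.SiegelGen.WFrame (Cfsg.Agent.TitsThree.KSideO.PO Q) w)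
    {g : ↥(E Q)} (hg : g ∈ UK Q (eN W) (fN W) w) (hf : ∀ i < w, (g : V ≃ₗ[F] V) (fN W i) = fN W i) : g = 1 := by
  rw [UK_eq] at hg
  refine eq_one_of_UU W w 0 (by omega) g hg fun i => ?_
  have := hf i i.2
  rwa [fN_eq W i.2] at this

/-! ### `FrameFact` -/

open Cfsg.Agent.OddHalf.Orth.KFlag in
/-- **The facts on the frame** for `E Q`, a Witt frame which does not span `V`. -/
theorem frameFact [Finite F] [CharP F 2] [Finite ↥(E Q)] {w : ℕ} (hw : 2 ≤ w)
    (W : Cfsg.Agent.TitsThree.SiegelGen.WFrame (Cfsg.Agent.TitsThree.KSideO.PO Q) w) (hG : Good Q)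
    (hsu : Function.Surjective (Cfsg.Agent.ClassicalGeometry.OrthSemi.Psi Q)) (hQ : Nondeg Q)
    (hd : 2 * w < Module.finrank F V) (hodd : Odd (UK Q (eN W) (fN W) w).index)
    (h2 : IsPGroup 2 (UK Q (eN W) (fN W) w)) (h : Flag Q w (eN W) (fN W)) :
    FrameFact (frR h) (UK Q (eN W) (fN W) w) where
  pU := h2
  maxU P hP hUP := Syl.le_of_odd hodd hP hUP
  trans := by
    intro α
    obtain ⟨M, σ, hs, hM⟩ := exists_sem hG hsu α
    have hF : Flag Q w (fun i => M (eN W i)) (fun i => M (fN W i)) :=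
      { hyp := fun i hi => ⟨by rw [hs.iso, (h.hyp i hi).left, map_zero], by rw [hs.iso, (h.hyp i hi).right, map_zero],
          by rw [polar_map hs, (h.hyp i hi).pair, map_one]⟩
        ee := fun i k hi hk hik => by rw [polar_map hs, h.ee i k hi hk hik, map_zero]
        ef := fun i k hi hk hik => by rw [polar_map hs, h.ef i k hi hk hik, map_zero]
        ff := fun i k hi hk hik => by rw [polar_map hs, h.ff i k hi hk hik, map_zero] }
    obtain ⟨k, hk⟩ := trans_flag hQ w hF h hd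
    refine ⟨k⁻¹, ?_⟩
    rintro (i | i) x hx
    · obtain ⟨y, hy, rfl⟩ := (mem_inl h i.2).1 hx
      rw [inv_inv, hM _ _ (h.hyp i i.2).left hy, tE_conj, (hk i i.2).1]
      refine tE_mem_R (h.hyp i i.2).left ?_
      have h3 : polar Q ((k : V ≃ₗ[F] V) (M (eN W i))) ((k : V ≃ₗ[F] V) (M y)) = 0 := by
        rw [polar_map', polar_map hs, hy, map_zero]
      rwa [(hk i i.2).1] at h3
    · obtain ⟨y, hy, rfl⟩ := (mem_inr h i.2).1 hx
      rw [inv_inv, hM _ _ (h.hyp i i.2).right hy, tE_conj, (hk i i.2).2]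
      refine tE_mem_R (h.hyp i i.2).right ?_
      have h3 : polar Q ((k : V ≃ₗ[F] V) (M (fN W i))) ((k : V ≃ₗ[F] V) (M y)) = 0 := by
        rw [polar_map', polar_map hs, hy, map_zero]
      rwa [(hk i i.2).2] at h3
  odd := by
    intro x hx hxx
    have hp := points_of hQ h hw (sem_of x) fun i hi => ⟨fun y hy => by
      have h3 := hx (Sum.inl ⟨i, hi⟩) _ (tE_mem_R (h.hyp i hi).left hy)
      obtain ⟨z, hz, hze⟩ := (mem_inl h hi).1 h3
      exact ⟨z, hz, by rw [← hze, tE_conj]; rfl⟩, fun y hy => by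
      have h3 := hx (Sum.inr ⟨i, hi⟩) _ (tE_mem_R (h.hyp i hi).right hy)
      obtain ⟨z, hz, hze⟩ := (mem_inr h hi).1 h3
      exact ⟨z, hz, by rw [← hze, tE_conj]; rfl⟩⟩
    have hfix : ∀ {u : V} {c : F}, u ≠ 0 → (x : V ≃ₗ[F] V) u = c • u → (x : V ≃ₗ[F] V) u = u := by
      intro u c hu0 hu
      have h3 : (x : V ≃ₗ[F] V) ((x : V ≃ₗ[F] V) u) = u := by
        have := congrArg (fun g : ↥(E Q) => (g : V ≃ₗ[F] V) u) hxx
        simpa using this
      rw [hu, LinearEquiv.map_smul, hu, smul_smul] at h3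
      have h4 : (c * c - 1) • u = 0 := by rw [sub_smul, one_smul, h3, sub_self]
      have h5 : (c - 1) * (c - 1) = 0 := by
        have h6 : c * c - 1 = 0 := (smul_eq_zero.1 h4).resolve_right hu0
        have h7 : (2 : F) = 0 := CharTwo.two_eq_zero
        linear_combination h6 + (1 - c) * h7
      have h6 : c = 1 := sub_eq_zero.1 (mul_self_eq_zero.1 h5)
      rw [hu, h6, one_smul]
    have hmem : x ∈ UK Q (eN W) (fN W) w := by
      have h3 := Syl.mem_of_norm (j := MonoidHom.id ↥(E Q)) Function.injective_id hodd h2 (x := x) ⟨x, rfl⟩ hxx (by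
        rw [Subgroup.map_id]
        intro u hu
        exact norm_UK h (sem_of x) hp (α := (MulAut.conj x).toMonoidHom) (fun u y _ _ => tE_conj x u y) u hu)
      rwa [Subgroup.map_id] at h3
    refine eq_one_of_UK W hmem fun i hi => ?_
    obtain ⟨d, hd0, hdi⟩ := (hp i hi).2
    refine hfix (c := d) ?_ hdi
    intro h0
    have := (h.hyp i hi).pair
    rw [h0, polar_zero_right] at this
    exact zero_ne_one this
  fix := by
    intro α hα
    obtain ⟨M, σ, hs, hM⟩ := exists_sem hG hsu α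
    refine norm_UK h hs (points_of hQ h hw hs fun i hi => ⟨fun y hy => ?_, fun y hy => ?_⟩)
      (α := α.toMonoidHom) hM
    · have h3 := hα (Sum.inl ⟨i, hi⟩) _ (tE_mem_R (h.hyp i hi).left hy)
      rw [hM _ _ (h.hyp i hi).left hy] at h3
      obtain ⟨z, hz, hze⟩ := (mem_inl h hi).1 h3
      exact ⟨z, hz, hze⟩
    · have h3 := hα (Sum.inr ⟨i, hi⟩) _ (tE_mem_R (h.hyp i hi).right hy)
      rw [hM _ _ (h.hyp i hi).right hy] at h3
      obtain ⟨z, hz, hze⟩ := (mem_inr h hi).1 h3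
      exact ⟨z, hz, hze⟩

/-! ### `O⁻` -/

section Minus

open Cfsg.Agent.OddHalf.Orth.KFlag Cfsg.Agent.OddHalf.Orth.KFlagMain Cfsg.Agent.TitsThree.KSideO

variable {F : Type*} [Field F] [Finite F] {m : ℕ}

theorem finite_E {ι : Type*} [Finite ι] (Q : QuadraticForm F (ι → F)) : Finite ↥(E Q) := by
  have : Finite ((ι → F) ≃ₗ[F] (ι → F)) :=
    Finite.of_injective (fun f => (f : (ι → F) → (ι → F))) DFunLike.coe_injective
  infer_instance

/-- **Minus type.** -/
theorem frameFact_minus [CharP F 2] (hm : 3 ≤ m) {a b : F}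
    (hab : ∀ z₁ z₂ : F, z₁ ^ 2 + a * z₁ * z₂ + b * z₂ ^ 2 = 0 → z₁ = 0 ∧ z₂ = 0)
    (h : Flag (minusForm m F a b) m (em m a b hab) (fm m a b hab)) :
    FrameFact (frR h) (UK (minusForm m F a b) (em m a b hab) (fm m a b hab) m) := by
  have hfin := finite_E (minusForm m F a b)
  obtain ⟨-, h1, h2⟩ := flag_minus hm a b hab
  have hd : 2 * m < Module.finrank F ((Fin m ⊕ Fin m) ⊕ Fin 2 → F) := by
    rw [finrank_minus]; omega
  exact frameFact (by omega) (wminus m F a b hab) (good_minus (by omega) hab)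
    (Cfsg.Agent.AutOrth.Final.surjective_minus hm hab) (nondeg_minusForm m F a b hab) hd h1 h2 h

end Minus

/-! ### The stabiliser of the frame in `C(t)` -/

variable {G : Type*} [Group G]

/-- the elements of `C(t)` which normalise every `j (R (e i))`, `j (R (f i))` -/
noncomputable def YR {n : ℕ} {e f : ℕ → V} (h : Flag Q n e f) (t : G) (j : ↥(E Q) →* G) : Subgroup G :=
  Subgroup.centralizer ({t} : Set G) ⊓ ⨅ i, Subgroup.normalizer (((frR h i).map j : Subgroup G) : Set G)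

theorem mem_YR [Finite G] {n : ℕ} {e f : ℕ → V} {h : Flag Q n e f} {t : G} {j : ↥(E Q) →* G} {g : G} :
    g ∈ YR h t j ↔ g * t = t * g ∧ ∀ i, ∀ x ∈ (frR h i).map j, g * x * g⁻¹ ∈ (frR h i).map j := by
  rw [YR, Subgroup.mem_inf, Subgroup.mem_centralizer_singleton_iff, Subgroup.mem_iInf]
  refine and_congr_right fun _ => forall_congr' fun i => ?_
  constructor
  · intro h x hx
    exact (Subgroup.mem_normalizer_iff.1 h x).1 hx
  · intro h
    exact TwChoice.mem_normalizer_of h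

theorem map_equiv {H : Type*} [Group H] {j : H →* G} (inj : Function.Injective j) (A : Subgroup H) :
    (A.map (MonoidHom.ofInjective inj).toMonoidHom).map j.range.subtype = A.map j := by
  rw [Subgroup.map_map]
  rfl

/-- **The input of `TwChoice`** with `Y = YR`. -/
theorem hyp_of_frameFact [Finite G] {n : ℕ} {e f : ℕ → V} {h : Flag Q n e f} {t v : G} {j : ↥(E Q) →* G}
    (inj : Function.Injective j) (S : Cfsg.Agent.OddHalf.Front.FE.Start0 j.range t v) {U : Subgroup ↥(E Q)}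
    (F : FrameFact (frR h) U) : TwChoice.Hyp t v j.range (YR h t j) (U.map j) := by
  have h1 := hyp_of S (F.map (MonoidHom.ofInjective inj))
  have h2 : frY t j.range (fun i => (frR h i).map (MonoidHom.ofInjective inj).toMonoidHom) = YR h t j := by
    rw [frY, YR]
    congr 1
    refine iInf_congr fun i => ?_
    rw [map_equiv inj]
  rw [h2, map_equiv inj] at h1
  exact h1

end Cfsg.Agent.KFacts.TwFrame.OFact
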