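import Cfsg.Agent.OddHalf.Orth.SitOf
import Cfsg.Agent.OddHalf.Orth.FlagDef

/-!
# `E Q` is transitive on flags of hyperbolic pairs which do not span `V` (characteristic two)

`trans_flag`: `Q` nondegenerate over a finite field of characteristic two, `e i, f i` and `e' i, f' i` (`i < n`) two
flags (`FlagDef.Flag`), `2 n < dim V`; then some `g : E Q` maps `e i` to `e' i` and `f i` to `f' i`.
-/

set_option autoImplicit false

namespace Cfsg.Agent.KFacts.TwFrame.OTrans

open QuadraticMap Cfsg.Agent.LieClassical.OrthCore Cfsg.Agent.LieClassical.OrthTrans Cfsg.Agent.OddHalf.Orth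
  Cfsg.Agent.OddHalf.Orth.SitOf Cfsg.Agent.OddHalf.Orth.FlagDef
  Cfsg.Agent.ClassicalGeometry.OrthAutBasic Cfsg.Agent.ClassicalGeometry.OrthAutRoot

variable {F V : Type*} [Field F] [AddCommGroup V] [Module F V] {Q : QuadraticForm F V}

theorem Flag.mono {n m : ℕ} {e f : ℕ → V} (h : Flag Q n e f) (hm : m ≤ n) : Flag Q m e f where
  hyp i hi := h.hyp i (by omega)
  ee i k hi hk := h.ee i k (by omega) (by omega)
  ef i k hi hk := h.ef i k (by omega) (by omega)
  ff i k hi hk := h.ff i k (by omega) (by omega)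

/-- The projection to the vectors perpendicular to `e k, f k` (`k < i`). -/
def pj (Q : QuadraticForm F V) (e f : ℕ → V) : ℕ → V → V
  | 0, v => v
  | i + 1, v => proj Q (e i) (f i) (pj Q e f i v)

theorem pj_perp {n : ℕ} {e f : ℕ → V} (h : Flag Q n e f) (v : V) :
    ∀ i ≤ n, ∀ k < i, polar Q (e k) (pj Q e f i v) = 0 ∧ polar Q (f k) (pj Q e f i v) = 0 := by
  intro i
  induction i with
  | zero => intro _ k hk; omega
  | succ i ih =>
    intro hi k hk
    have hp := h.hyp i (by omega)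
    rw [pj]
    rcases Nat.lt_succ_iff_lt_or_eq.1 hk with h1 | rfl
    · rw [polar_proj_of_perp (h.ee i k (by omega) (by omega) (by omega))
          (polar_zero_of_comm (h.ef k i (by omega) (by omega) (by omega))),
        polar_proj_of_perp (h.ef i k (by omega) (by omega) (by omega))
          (h.ff i k (by omega) (by omega) (by omega))]
      exact ih (by omega) k h1
    · exact ⟨polar_proj_left hp _, polar_proj_right hp _⟩

theorem polar_pj {e f : ℕ → V} {w : V} (v : V) : ∀ i, (∀ k < i, polar Q (e k) w = 0 ∧ polar Q (f k) w = 0) →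
    polar Q w (pj Q e f i v) = polar Q w v := by
  intro i
  induction i with
  | zero => intro _; rfl
  | succ i ih =>
    intro h
    rw [pj, polar_proj_of_perp (h i (by omega)).1 (h i (by omega)).2]
    exact ih fun k hk => h k (by omega)

/-- A flag which does not span `V` has a perpendicular vector with `Q v ≠ 0`. -/
theorem exists_ns (hQ : Nondeg Q) {n : ℕ} {e f : ℕ → V} (h : Flag Q n e f)
    (hd : 2 * n < Module.finrank F V) :
    ∃ v, Q v ≠ 0 ∧ ∀ k < n, polar Q (e k) v = 0 ∧ polar Q (f k) v = 0 := by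
  obtain ⟨w, hw0, hw⟩ := exists_perp_ne (Q := Q) (n := 2 * n)
    (fun i : Fin (2 * n) => if (i : ℕ) < n then e i else f (i - n)) hd
  have hw' : ∀ k < n, polar Q (e k) w = 0 ∧ polar Q (f k) w = 0 := by
    intro k hk
    have h1 := hw ⟨k, by omega⟩
    have h2 := hw ⟨n + k, by omega⟩
    simp only [if_pos hk] at h1
    simp only [show ¬ n + k < n by omega, if_false, Nat.add_sub_cancel_left] at h2
    exact ⟨h1, h2⟩
  by_cases hQw : Q w = 0
  · obtain ⟨y0, hy0⟩ := hQ.exists_polar_ne hw0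
    set y := (polar Q w y0)⁻¹ • y0 with hy
    have hwy : polar Q w y = 1 := by
      rw [hy, polar_smul_right, smul_eq_mul, inv_mul_cancel₀ hy0]
    set z := pj Q e f n y with hz
    have hz1 := pj_perp h y n le_rfl
    have hz2 : polar Q w z = 1 := by rw [hz, polar_pj y n hw', hwy]
    rcases exists_nonsing hz2 with h1 | h1 | h1
    · exact absurd hQw h1
    · exact ⟨z, h1, hz1⟩
    · refine ⟨w + z, h1, fun k hk => ?_⟩
      rw [polar_add_right, polar_add_right, (hw' k hk).1, (hw' k hk).2, (hz1 k hk).1, (hz1 k hk).2, add_zero]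
      exact ⟨rfl, rfl⟩
  · exact ⟨w, hQw, hw'⟩

section two

variable [CharP F 2]

omit [CharP F 2] in
theorem sym (x y : V) : polar Q x y = polar Q y x := polar_comm Q x y

/-- `E Q` moves a partner of `x` to another one, and fixes everything perpendicular. -/
theorem partner {x y y' : V} (h : Hyp Q x y) (h' : Hyp Q x y') :
    ∃ g : ↥(E Q), (g : V ≃ₗ[F] V) x = x ∧ (g : V ≃ₗ[F] V) y = y' ∧
      ∀ s, polar Q x s = 0 → polar Q y s = 0 → polar Q y' s = 0 → (g : V ≃ₗ[F] V) s = s := by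
  have hw : polar Q x (y + y') = 0 := by
    rw [polar_add_right, h.pair, h'.pair, CharTwo.add_self_eq_zero]
  refine ⟨tE Q x (y + y'), ?_, ?_, fun s hs hy hy' => ?_⟩
  · rw [coe_tE, T_apply2 h.left hw, polar_self2, sym, hw]
    simp
  · rw [coe_tE, T_apply2 h.left hw, h.pair]
    have h1 : polar Q (y + y') y = polar Q y y' := by
      rw [polar_add_left, polar_self2, zero_add, sym]
    have h2 : Q (y + y') = polar Q y y' := by
      rw [Q_add, h.right, h'.right, zero_add, zero_add]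
    rw [h1, h2, mul_one, CharTwo.add_self_eq_zero, zero_smul, add_zero, one_smul, ← add_assoc,
      add_self' (F := F), zero_add]
  · rw [coe_tE, T_apply2 h.left hw, hs, polar_add_left, hy, hy']
    simp

variable [Finite F]

/-- Two singular vectors which are not perpendicular. -/
theorem move1 {S : Set V} {x x' v : V} (hx : Q x = 0) (hx' : Q x' = 0) (hxx : polar Q x x' ≠ 0) (hv : Q v ≠ 0)
    (hvx : polar Q x v = 0) (hvx' : polar Q x' v = 0) (hxS : ∀ s ∈ S, polar Q x s = 0)
    (hxS' : ∀ s ∈ S, polar Q x' s = 0) (hvS : ∀ s ∈ S, polar Q v s = 0) :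
    ∃ g : ↥(E Q), (g : V ≃ₗ[F] V) x = x' ∧ ∀ s ∈ S, (g : V ≃ₗ[F] V) s = s := by
  set c := polar Q x x' with hc
  obtain ⟨μ, hμ⟩ := exists_sqrt (c⁻¹ * (Q v)⁻¹)
  set z := c⁻¹ • x + c⁻¹ • x' + μ • v with hz
  have hQz : Q z = 0 := by
    have h1 : Q (c⁻¹ • x + c⁻¹ • x') = c⁻¹ := by
      rw [Q_add, QuadraticMap.map_smul, QuadraticMap.map_smul, hx, hx', polar_smul_left, polar_smul_right, ← hc]
      simp only [smul_eq_mul, mul_zero, zero_add]
      rw [inv_mul_cancel₀ hxx, mul_one]
    have h2 : polar Q (c⁻¹ • x + c⁻¹ • x') (μ • v) = 0 := by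
      rw [polar_smul_right, polar_add_left, polar_smul_left, polar_smul_left, hvx, hvx']
      simp
    rw [hz, Q_add, h1, h2, QuadraticMap.map_smul, smul_eq_mul, hμ, mul_assoc, inv_mul_cancel₀ hv, mul_one, add_zero,
      CharTwo.add_self_eq_zero]
  have hzx : polar Q z x = 1 := by
    rw [hz, polar_add_left, polar_add_left, polar_smul_left, polar_smul_left, polar_smul_left, polar_self2, sym x' x,
      ← hc, sym v x, hvx]
    simp [hxx]
  have hzx' : polar Q z x' = 1 := by
    rw [hz, polar_add_left, polar_add_left, polar_smul_left, polar_smul_left, polar_smul_left, polar_self2,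
      ← hc, sym v x', hvx']
    simp [hxx]
  obtain ⟨g, -, h2, h3⟩ := partner (Q := Q) ⟨hQz, hx, hzx⟩ ⟨hQz, hx', hzx'⟩
  refine ⟨g, h2, fun s hs => h3 s ?_ (hxS s hs) (hxS' s hs)⟩
  rw [hz, polar_add_left, polar_add_left, polar_smul_left, polar_smul_left, polar_smul_left, hxS s hs, hxS' s hs,
    hvS s hs]
  simp

/-- Hyperbolic pairs perpendicular to `S`. -/
theorem move2 {S : Set V} {x y x' y' : V} (h : Hyp Q x y) (h' : Hyp Q x' y') (hxS : ∀ s ∈ S, polar Q x s = 0)
    (hyS : ∀ s ∈ S, polar Q y s = 0) (hxS' : ∀ s ∈ S, polar Q x' s = 0) (hyS' : ∀ s ∈ S, polar Q y' s = 0)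
    (hv : ∀ a b : V, Q a = 0 → Q b = 0 → polar Q a b ≠ 0 → (∀ s ∈ S, polar Q a s = 0) →
      (∀ s ∈ S, polar Q b s = 0) → ∃ v, Q v ≠ 0 ∧ polar Q a v = 0 ∧ polar Q b v = 0 ∧ ∀ s ∈ S, polar Q v s = 0) :
    ∃ g : ↥(E Q), (g : V ≃ₗ[F] V) x = x' ∧ (g : V ≃ₗ[F] V) y = y' ∧ ∀ s ∈ S, (g : V ≃ₗ[F] V) s = s := by
  have hm : ∀ a b : V, Q a = 0 → Q b = 0 → polar Q a b ≠ 0 → (∀ s ∈ S, polar Q a s = 0) →
      (∀ s ∈ S, polar Q b s = 0) → ∃ g : ↥(E Q), (g : V ≃ₗ[F] V) a = b ∧ ∀ s ∈ S, (g : V ≃ₗ[F] V) s = s := by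
    intro a b ha hb hab haS hbS
    obtain ⟨v, hv1, hv2, hv3, hv4⟩ := hv a b ha hb hab haS hbS
    exact move1 ha hb hab hv1 hv2 hv3 haS hbS hv4
  -- the first vector
  obtain ⟨g1, hg1, hg1S⟩ : ∃ g : ↥(E Q), (g : V ≃ₗ[F] V) x = x' ∧ ∀ s ∈ S, (g : V ≃ₗ[F] V) s = s := by
    by_cases hxx : polar Q x x' ≠ 0
    · exact hm x x' h.left h'.left hxx hxS hxS'
    · rw [ne_eq, not_not] at hxx
      obtain ⟨z, hz, hz1, hz2, hzS⟩ : ∃ z, Q z = 0 ∧ polar Q x z ≠ 0 ∧ polar Q z x' ≠ 0 ∧
          ∀ s ∈ S, polar Q z s = 0 := by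
        by_cases h1 : polar Q x' y ≠ 0
        · exact ⟨y, h.right, by rw [h.pair]; exact one_ne_zero, by rwa [sym], hyS⟩
        rw [ne_eq, not_not] at h1
        by_cases h2 : polar Q x y' ≠ 0
        · exact ⟨y', h'.right, h2, by rw [sym, h'.pair]; exact one_ne_zero, hyS'⟩
        rw [ne_eq, not_not] at h2
        refine ⟨y + y' + polar Q y y' • x, ?_, ?_, ?_, fun s hs => ?_⟩
        · rw [Q_add, Q_add, h.right, h'.right, QuadraticMap.map_smul, h.left, polar_smul_right, polar_add_left,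
            sym y x, h.pair, sym y' x, h2]
          simp only [smul_eq_mul, mul_zero, add_zero, zero_add, mul_one]
          exact CharTwo.add_self_eq_zero _
        · rw [polar_add_right, polar_add_right, polar_smul_right, h.pair, h2, polar_self2]
          simp
        · rw [polar_add_left, polar_add_left, polar_smul_left, sym y x', h1, sym y' x', h'.pair, hxx]
          simp
        · rw [polar_add_left, polar_add_left, polar_smul_left, hyS s hs, hyS' s hs, hxS s hs]
          simp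
      obtain ⟨g, hg, hgS⟩ := hm x z h.left hz hz1 hxS hzS
      obtain ⟨g', hg', hgS'⟩ := hm z x' hz h'.left hz2 hzS hxS'
      refine ⟨g' * g, ?_, fun s hs => ?_⟩
      · rw [Subgroup.coe_mul, LinearEquiv.mul_apply, hg, hg']
      · rw [Subgroup.coe_mul, LinearEquiv.mul_apply, hgS s hs, hgS' s hs]
  -- the second vector
  set y1 := (g1 : V ≃ₗ[F] V) y with hy1
  have hH : Hyp Q x' y1 := by
    rw [← hg1]
    exact h.map (mem_O' g1)
  obtain ⟨g2, hg2, hg2', hg2S⟩ := partner hH h'
  refine ⟨g2 * g1, ?_, ?_, fun s hs => ?_⟩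
  · rw [Subgroup.coe_mul, LinearEquiv.mul_apply, hg1, hg2]
  · rw [Subgroup.coe_mul, LinearEquiv.mul_apply, ← hy1, hg2']
  · rw [Subgroup.coe_mul, LinearEquiv.mul_apply, hg1S s hs]
    refine hg2S s (hxS' s hs) ?_ (hyS' s hs)
    rw [← hg1S s hs, hy1, polar_map' g1]
    exact hyS s hs

omit [Finite F] in
/-- the flag `(e, f)` of length `n` prolonged by `(a, b)` -/
theorem flag_snoc {n : ℕ} {e f : ℕ → V} (h : Flag Q n e f) {a b : V} (hab : Hyp Q a b)
    (hp : ∀ k < n, polar Q (e k) a = 0 ∧ polar Q (f k) a = 0 ∧ polar Q (e k) b = 0 ∧ polar Q (f k) b = 0) :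
    Flag Q (n + 1) (fun i => if i < n then e i else a) (fun i => if i < n then f i else b) where
  hyp i hi := by
    by_cases h1 : i < n
    · simp only [if_pos h1]; exact h.hyp i h1
    · simp only [if_neg h1]; exact hab
  ee i k hi hk hik := by
    by_cases h1 : i < n <;> by_cases h2 : k < n
    · simp only [if_pos h1, if_pos h2]; exact h.ee i k h1 h2 hik
    · simp only [if_pos h1, if_neg h2]; exact (hp i h1).1
    · simp only [if_neg h1, if_pos h2]; rw [sym]; exact (hp k h2).1
    · omega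
  ef i k hi hk hik := by
    by_cases h1 : i < n <;> by_cases h2 : k < n
    · simp only [if_pos h1, if_pos h2]; exact h.ef i k h1 h2 hik
    · simp only [if_pos h1, if_neg h2]; exact (hp i h1).2.2.1
    · simp only [if_neg h1, if_pos h2]; rw [sym]; exact (hp k h2).2.1
    · omega
  ff i k hi hk hik := by
    by_cases h1 : i < n <;> by_cases h2 : k < n
    · simp only [if_pos h1, if_pos h2]; exact h.ff i k h1 h2 hik
    · simp only [if_pos h1, if_neg h2]; exact (hp i h1).2.2.2
    · simp only [if_neg h1, if_pos h2]; rw [sym]; exact (hp k h2).2.2.2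
    · omega

/-- **`E Q` is transitive on flags which do not span `V`.** -/
theorem trans_flag (hQ : Nondeg Q) : ∀ (n : ℕ) {e f e' f' : ℕ → V}, Flag Q n e f → Flag Q n e' f' →
    2 * n < Module.finrank F V →
    ∃ g : ↥(E Q), ∀ i < n, (g : V ≃ₗ[F] V) (e i) = e' i ∧ (g : V ≃ₗ[F] V) (f i) = f' i := by
  intro n
  induction n with
  | zero =>
    intro e f e' f' _ _ _
    exact ⟨1, fun i hi => by omega⟩
  | succ n ih =>
    intro e f e' f' h h' hd
    obtain ⟨g0, hg0⟩ := ih (Flag.mono h (Nat.le_succ n)) (Flag.mono h' (Nat.le_succ n)) (by omega)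
    set S : Set V := {s | ∃ k < n, s = e' k ∨ s = f' k} with hS
    have hp : ∀ {a : V}, (∀ k < n, polar Q (e k) a = 0 ∧ polar Q (f k) a = 0) →
        ∀ s ∈ S, polar Q ((g0 : V ≃ₗ[F] V) a) s = 0 := by
      rintro a ha s ⟨k, hk, rfl | rfl⟩
      · rw [← (hg0 k hk).1, polar_map', sym]; exact (ha k hk).1
      · rw [← (hg0 k hk).2, polar_map', sym]; exact (ha k hk).2
    have hp' : ∀ {a : V}, (∀ k < n, polar Q (e' k) a = 0 ∧ polar Q (f' k) a = 0) → ∀ s ∈ S, polar Q a s = 0 := by
      rintro a ha s ⟨k, hk, rfl | rfl⟩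
      · rw [sym]; exact (ha k hk).1
      · rw [sym]; exact (ha k hk).2
    have hen : ∀ k < n, polar Q (e k) (e n) = 0 ∧ polar Q (f k) (e n) = 0 := fun k hk =>
      ⟨h.ee k n (by omega) (by omega) (by omega), by
        rw [sym]; exact h.ef n k (by omega) (by omega) (by omega)⟩
    have hfn : ∀ k < n, polar Q (e k) (f n) = 0 ∧ polar Q (f k) (f n) = 0 := fun k hk =>
      ⟨h.ef k n (by omega) (by omega) (by omega), h.ff k n (by omega) (by omega) (by omega)⟩
    have hen' : ∀ k < n, polar Q (e' k) (e' n) = 0 ∧ polar Q (f' k) (e' n) = 0 := fun k hk =>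
      ⟨h'.ee k n (by omega) (by omega) (by omega), by
        rw [sym]; exact h'.ef n k (by omega) (by omega) (by omega)⟩
    have hfn' : ∀ k < n, polar Q (e' k) (f' n) = 0 ∧ polar Q (f' k) (f' n) = 0 := fun k hk =>
      ⟨h'.ef k n (by omega) (by omega) (by omega), h'.ff k n (by omega) (by omega) (by omega)⟩
    obtain ⟨g1, h1, h2, h3⟩ := move2 (S := S) ((h.hyp n (by omega)).map (mem_O' g0)) (h'.hyp n (by omega))
      (hp hen) (hp hfn) (hp' hen') (hp' hfn') (by
        intro a b ha hb hab haS hbS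
        have hab' : Hyp Q a ((polar Q a b)⁻¹ • b) :=
          ⟨ha, by rw [QuadraticMap.map_smul, hb, smul_zero], by
            rw [polar_smul_right, smul_eq_mul, inv_mul_cancel₀ hab]⟩
        have hea : ∀ k < n, polar Q (e' k) a = 0 ∧ polar Q (f' k) a = 0 := fun k hk =>
          ⟨by rw [sym]; exact haS _ ⟨k, hk, Or.inl rfl⟩, by rw [sym]; exact haS _ ⟨k, hk, Or.inr rfl⟩⟩
        have heb : ∀ k < n, polar Q (e' k) b = 0 ∧ polar Q (f' k) b = 0 := fun k hk =>
          ⟨by rw [sym]; exact hbS _ ⟨k, hk, Or.inl rfl⟩, by rw [sym]; exact hbS _ ⟨k, hk, Or.inr rfl⟩⟩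
        obtain ⟨v, hv, hv'⟩ := exists_ns hQ (flag_snoc (Flag.mono h' (Nat.le_succ n)) hab' fun k hk =>
          ⟨(hea k hk).1, (hea k hk).2, by rw [polar_smul_right, (heb k hk).1, smul_zero],
            by rw [polar_smul_right, (heb k hk).2, smul_zero]⟩) hd
        have hvn := hv' n (by omega)
        simp only [lt_irrefl, if_false] at hvn
        refine ⟨v, hv, hvn.1, ?_, ?_⟩
        · have h4 := hvn.2
          rw [polar_smul_left, smul_eq_mul] at h4
          rcases mul_eq_zero.1 h4 with h5 | h5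
          · exact absurd h5 (inv_ne_zero hab)
          · exact h5
        · rintro s ⟨k, hk, rfl | rfl⟩
          · have h4 := (hv' k (by omega)).1
            simp only [if_pos hk] at h4
            rw [sym]; exact h4
          · have h4 := (hv' k (by omega)).2
            simp only [if_pos hk] at h4
            rw [sym]; exact h4)
    refine ⟨g1 * g0, fun i hi => ?_⟩
    rw [Subgroup.coe_mul, LinearEquiv.mul_apply, LinearEquiv.mul_apply]
    rcases Nat.lt_succ_iff_lt_or_eq.1 hi with h4 | rfl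
    · rw [(hg0 i h4).1, (hg0 i h4).2]
      exact ⟨h3 _ ⟨i, h4, Or.inl rfl⟩, h3 _ ⟨i, h4, Or.inr rfl⟩⟩
    · exact ⟨h1, h2⟩

end two

end Cfsg.Agent.KFacts.TwFrame.OTrans
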