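import Cfsg.Agent.LieClassical.HermSiegel

/-!
# `SU_n(q)` is transitive on frames of isotropic points

`Fl q m e f`: mutually perpendicular hyperbolic pairs `e i, f i` (`i < m`) of `hermForm n F q`. `trans_points`: for two
such families some `g : SU n F q` maps the points `F e i, F f i` to `F e' i, F f' i` (all characteristics).
-/

set_option autoImplicit false

namespace Cfsg.Agent.KFacts.TwFrame.UTrans

open Cfsg Cfsg.Agent.LieClassical.HermBasic Cfsg.Agent.LieClassical.HermSiegel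

variable {F : Type*} [Field F] [Fintype F] {q n : ℕ}

/-- mutually perpendicular hyperbolic pairs `e i, f i` (`i < m`) -/
structure Fl (q m : ℕ) (e f : ℕ → Fin n → F) : Prop where
  ee : ∀ i < m, ∀ j < m, hermForm n F q (e i) (e j) = 0
  ff : ∀ i < m, ∀ j < m, hermForm n F q (f i) (f j) = 0
  ef : ∀ i < m, ∀ j < m, hermForm n F q (e i) (f j) = if i = j then 1 else 0

theorem Fl.fe (hF : Fintype.card F = q ^ 2) {m : ℕ} {e f : ℕ → Fin n → F} (h : Fl q m e f) {i j : ℕ} (hi : i < m)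
    (hj : j < m) : hermForm n F q (f i) (e j) = if i = j then 1 else 0 := by
  rw [herm_swap hF, h.ef j hj i hi]
  by_cases hij : i = j
  · rw [if_pos hij.symm, if_pos hij, one_pow]
  · rw [if_neg (Ne.symm hij), if_neg hij, zero_pow_q hF]

omit [Fintype F] in
theorem Fl.mono {m l : ℕ} {e f : ℕ → Fin n → F} (h : Fl q m e f) (hl : l ≤ m) : Fl q l e f where
  ee i hi j hj := h.ee i (by omega) j (by omega)
  ff i hi j hj := h.ff i (by omega) j (by omega)
  ef i hi j hj := h.ef i (by omega) j (by omega)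

variable (hF : Fintype.card F = q ^ 2)
include hF

theorem z_swap {u v : Fin n → F} (h : hermForm n F q u v = 0) : hermForm n F q v u = 0 := herm_eq_zero_swap hF h

theorem o_swap {u v : Fin n → F} (h : hermForm n F q u v = 1) : hermForm n F q v u = 1 := by
  rw [herm_swap hF, h, one_pow]

/-- Two partners of an isotropic vector `x`. -/
theorem partner {x y y' : Fin n → F} (hx : hermForm n F q x x = 0) (hy : hermForm n F q y y = 0)
    (hy' : hermForm n F q y' y' = 0) (hxy : hermForm n F q x y = 1) (hxy' : hermForm n F q x y' = 1) :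
    ∃ g : SU n F q, act g x = x ∧ act g y = y' ∧
      ∀ s, hermForm n F q x s = 0 → hermForm n F q y s = 0 → hermForm n F q y' s = 0 → act g s = s := by
  have hyx := o_swap hF hxy
  have hyx' := o_swap hF hxy'
  have hS : IsSiegel q x (y' - y) (hermForm n F q y y') := by
    refine ⟨hx, ?_, ?_⟩
    · rw [herm_sub_left, hyx, hyx', sub_self]
    · rw [herm_sub_left, herm_sub_right hF, herm_sub_right hF, hy, hy', ← herm_swap hF]
      ring
  refine ⟨siegel hF x (y' - y) _ hS, act_siegel_self hF hS, ?_, fun s h1 h2 h3 => ?_⟩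
  · rw [act_siegel, hyx, herm_sub_right hF, hy]
    simp
  · rw [act_siegel, z_swap hF h1, herm_sub_right hF, z_swap hF h2, z_swap hF h3]
    simp

/-- Two isotropic vectors which are not perpendicular. -/
theorem move1 {S : Set (Fin n → F)} {x x' : Fin n → F} (hx : hermForm n F q x x = 0) (hx' : hermForm n F q x' x' = 0)
    (hxx : hermForm n F q x x' ≠ 0) (hxS : ∀ s ∈ S, hermForm n F q x s = 0)
    (hxS' : ∀ s ∈ S, hermForm n F q x' s = 0) :
    ∃ (g : SU n F q) (c : F), c ≠ 0 ∧ act g x = c • x' ∧ ∀ s ∈ S, act g s = s := by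
  obtain ⟨l, hl0, hl⟩ := exists_trace_zero_ne hF
  -- `x''` with `(x, x'') = 1`
  obtain ⟨c, hc⟩ : ∃ c, c = hermForm n F q x x' := ⟨_, rfl⟩
  rw [← hc] at hxx
  obtain ⟨d, hd⟩ : ∃ d : F, d = (c ^ q)⁻¹ := ⟨_, rfl⟩
  have hcq : c ^ q ≠ 0 := fun h => hxx ((pow_q_eq_zero hF).1 h)
  have hd0 : d ≠ 0 := by rw [hd]; exact inv_ne_zero hcq
  have hdq : d ^ q = c⁻¹ := by rw [hd, inv_pow, pow_q_pow_q hF]
  obtain ⟨x2, hx2⟩ : ∃ x2, x2 = d • x' := ⟨_, rfl⟩
  have h1 : hermForm n F q x x2 = 1 := by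
    rw [hx2, herm_smul_right, ← hc, hdq, inv_mul_cancel₀ hxx]
  have h2 : hermForm n F q x2 x2 = 0 := by rw [hx2, herm_smul_right, herm_smul_left, hx', mul_zero, mul_zero]
  have h1' := o_swap hF h1
  -- the third point
  obtain ⟨z, hz⟩ : ∃ z, z = x + l • x2 := ⟨_, rfl⟩
  have hzz : hermForm n F q z z = 0 := by
    rw [hz, herm_add_left, herm_add_right hF, herm_add_right hF, herm_smul_left, herm_smul_left, herm_smul_right,
      herm_smul_right, hx, h1, h1', h2]
    linear_combination hl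
  have hzx : hermForm n F q z x = l := by
    rw [hz, herm_add_left, herm_smul_left, hx, h1', mul_one, zero_add]
  have hzx2 : hermForm n F q z x2 = 1 := by
    rw [hz, herm_add_left, herm_smul_left, h1, h2, mul_zero, add_zero]
  -- scale `x`
  obtain ⟨a, ha⟩ : ∃ a : F, a = (l ^ q)⁻¹ := ⟨_, rfl⟩
  have hlq : l ^ q ≠ 0 := fun h => hl0 ((pow_q_eq_zero hF).1 h)
  have ha0 : a ≠ 0 := by rw [ha]; exact inv_ne_zero hlq
  have haq : a ^ q = l⁻¹ := by rw [ha, inv_pow, pow_q_pow_q hF]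
  have hzax : hermForm n F q z (a • x) = 1 := by
    rw [herm_smul_right, hzx, haq, inv_mul_cancel₀ hl0]
  obtain ⟨g, -, hg, hgS⟩ := partner hF hzz (y := a • x) (y' := x2)
    (by rw [herm_smul_right, herm_smul_left, hx, mul_zero, mul_zero]) h2 hzax hzx2
  refine ⟨g, a⁻¹ * d, mul_ne_zero (inv_ne_zero ha0) hd0, ?_, fun s hs => hgS s ?_ ?_ ?_⟩
  · have h3 : a • act g x = x2 := by rw [← act_smul, hg]
    rw [mul_smul, ← hx2, ← h3, smul_smul, inv_mul_cancel₀ ha0, one_smul]
  · rw [hz, herm_add_left, herm_smul_left, hxS s hs, hx2, herm_smul_left, hxS' s hs]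
    ring
  · rw [herm_smul_left, hxS s hs, mul_zero]
  · rw [hx2, herm_smul_left, hxS' s hs, mul_zero]

/-- Hyperbolic pairs perpendicular to `S`. -/
theorem move2 {S : Set (Fin n → F)} {x y x' y' : Fin n → F} (hx : hermForm n F q x x = 0)
    (hy : hermForm n F q y y = 0) (hxy : hermForm n F q x y = 1) (hx' : hermForm n F q x' x' = 0)
    (hy' : hermForm n F q y' y' = 0) (hxy' : hermForm n F q x' y' = 1) (hxS : ∀ s ∈ S, hermForm n F q x s = 0)
    (hyS : ∀ s ∈ S, hermForm n F q y s = 0) (hxS' : ∀ s ∈ S, hermForm n F q x' s = 0)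
    (hyS' : ∀ s ∈ S, hermForm n F q y' s = 0) :
    ∃ (g : SU n F q) (c d : F), c ≠ 0 ∧ d ≠ 0 ∧ act g x = c • x' ∧ act g y = d • y' ∧ ∀ s ∈ S, act g s = s := by
  obtain ⟨g1, c, hc, hg1, hg1S⟩ : ∃ (g : SU n F q) (c : F), c ≠ 0 ∧ act g x = c • x' ∧ ∀ s ∈ S, act g s = s := by
    by_cases hxx : hermForm n F q x x' ≠ 0
    · exact move1 hF hx hx' hxx hxS hxS'
    · rw [ne_eq, not_not] at hxx
      obtain ⟨z, hz, hz1, hz2, hzS⟩ : ∃ z, hermForm n F q z z = 0 ∧ hermForm n F q x z ≠ 0 ∧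
          hermForm n F q z x' ≠ 0 ∧ ∀ s ∈ S, hermForm n F q z s = 0 := by
        by_cases h1 : hermForm n F q y x' ≠ 0
        · exact ⟨y, hy, by rw [hxy]; exact one_ne_zero, h1, hyS⟩
        rw [ne_eq, not_not] at h1
        by_cases h2 : hermForm n F q x y' ≠ 0
        · exact ⟨y', hy', h2, by rw [o_swap hF hxy']; exact one_ne_zero, hyS'⟩
        rw [ne_eq, not_not] at h2
        have h3 := z_swap hF h2
        have h4 := o_swap hF hxy
        refine ⟨y + y' + (-hermForm n F q y y') • x, ?_, ?_, ?_, fun s hs => ?_⟩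
        · simp only [herm_add_left, herm_add_right hF, herm_smul_left, herm_smul_right, hx, hy, hy', hxy, h2, h3, h4,
            neg_pow_q hF]
          rw [herm_swap hF y y']
          ring
        · rw [herm_add_right hF, herm_add_right hF, herm_smul_right, hxy, h2, hx]
          simp
        · rw [herm_add_left, herm_add_left, herm_smul_left, h1, o_swap hF hxy', hxx]
          simp
        · rw [herm_add_left, herm_add_left, herm_smul_left, hyS s hs, hyS' s hs, hxS s hs]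
          ring
      obtain ⟨g, c, hc, hg, hgS⟩ := move1 hF hx hz hz1 hxS hzS
      obtain ⟨g', c', hc', hg', hgS'⟩ := move1 hF hz hx' hz2 hzS hxS'
      refine ⟨g' * g, c * c', mul_ne_zero hc hc', ?_, fun s hs => ?_⟩
      · rw [act_mul, hg, act_smul, hg', smul_smul]
      · rw [act_mul, hgS s hs, hgS' s hs]
  -- the second vector
  have hcq : c ^ q ≠ 0 := fun h => hc ((pow_q_eq_zero hF).1 h)
  obtain ⟨y1, hy1⟩ : ∃ y1, y1 = (c ^ q) • act g1 y := ⟨_, rfl⟩
  have h1 : hermForm n F q y1 y1 = 0 := by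
    rw [hy1, herm_smul_right, herm_smul_left, herm_act, hy, mul_zero, mul_zero]
  have h2 : hermForm n F q x' y1 = 1 := by
    have h3 : x' = c⁻¹ • act g1 x := by rw [hg1, smul_smul, inv_mul_cancel₀ hc, one_smul]
    rw [hy1, herm_smul_right, h3, herm_smul_left, herm_act, hxy, pow_q_pow_q hF, mul_one, mul_inv_cancel₀ hc]
  obtain ⟨g2, hg2, hg2', hg2S⟩ := partner hF hx' h1 hy' h2 hxy'
  refine ⟨g2 * g1, c, (c ^ q)⁻¹, hc, inv_ne_zero hcq, ?_, ?_, fun s hs => ?_⟩
  · rw [act_mul, hg1, act_smul, hg2]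
  · have h3 : act g2 y1 = y' := hg2'
    rw [hy1, act_smul] at h3
    rw [act_mul, ← h3, smul_smul, inv_mul_cancel₀ hcq, one_smul]
  · rw [act_mul, hg1S s hs]
    refine hg2S s (hxS' s hs) ?_ (hyS' s hs)
    rw [hy1, herm_smul_left]
    have h3 : hermForm n F q (act g1 y) s = 0 := by
      rw [← hg1S s hs, herm_act]
      exact hyS s hs
    rw [h3, mul_zero]

/-- **`SU_n(q)` is transitive on frames of points.** -/
theorem trans_points : ∀ (m : ℕ) {e f e' f' : ℕ → Fin n → F}, Fl q m e f → Fl q m e' f' →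
    ∃ g : SU n F q, ∀ i < m, (∃ c : F, c ≠ 0 ∧ act g (e i) = c • e' i) ∧ ∃ d : F, d ≠ 0 ∧ act g (f i) = d • f' i := by
  intro m
  induction m with
  | zero =>
    intro e f e' f' _ _
    exact ⟨1, fun i hi => by omega⟩
  | succ m ih =>
    intro e f e' f' h h'
    obtain ⟨g0, hg0⟩ := ih (h.mono (Nat.le_succ m)) (h'.mono (Nat.le_succ m))
    have hm : m < m + 1 := Nat.lt_succ_self m
    set S : Set (Fin n → F) := {s | ∃ k < m, s = e' k ∨ s = f' k} with hS
    have hp : ∀ {a : Fin n → F}, (∀ k < m, hermForm n F q (e k) a = 0 ∧ hermForm n F q (f k) a = 0) →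
        ∀ s ∈ S, hermForm n F q (act g0 a) s = 0 := by
      rintro a ha s ⟨k, hk, rfl | rfl⟩
      · obtain ⟨c, hc, hck⟩ := (hg0 k hk).1
        have h1 : e' k = c⁻¹ • act g0 (e k) := by rw [hck, smul_smul, inv_mul_cancel₀ hc, one_smul]
        rw [h1, herm_smul_right, herm_act, z_swap hF (ha k hk).1, mul_zero]
      · obtain ⟨c, hc, hck⟩ := (hg0 k hk).2
        have h1 : f' k = c⁻¹ • act g0 (f k) := by rw [hck, smul_smul, inv_mul_cancel₀ hc, one_smul]
        rw [h1, herm_smul_right, herm_act, z_swap hF (ha k hk).2, mul_zero]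
    have hp' : ∀ {a : Fin n → F}, (∀ k < m, hermForm n F q (e' k) a = 0 ∧ hermForm n F q (f' k) a = 0) →
        ∀ s ∈ S, hermForm n F q a s = 0 := by
      rintro a ha s ⟨k, hk, rfl | rfl⟩
      · exact z_swap hF (ha k hk).1
      · exact z_swap hF (ha k hk).2
    have hne : ∀ k < m, k ≠ m := fun k hk => by omega
    obtain ⟨g1, c, d, hc, hd, h1, h2, h3⟩ := move2 hF (S := S) (x := act g0 (e m)) (y := act g0 (f m))
      (x' := e' m) (y' := f' m)
      (by rw [herm_act]; exact h.ee m hm m hm) (by rw [herm_act]; exact h.ff m hm m hm)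
      (by rw [herm_act, h.ef m hm m hm, if_pos rfl]) (h'.ee m hm m hm) (h'.ff m hm m hm)
      (by rw [h'.ef m hm m hm, if_pos rfl])
      (hp fun k hk => ⟨h.ee k (by omega) m hm, by rw [h.fe hF (by omega) hm, if_neg (hne k hk)]⟩)
      (hp fun k hk => ⟨by rw [h.ef k (by omega) m hm, if_neg (hne k hk)], h.ff k (by omega) m hm⟩)
      (hp' fun k hk => ⟨h'.ee k (by omega) m hm, by rw [h'.fe hF (by omega) hm, if_neg (hne k hk)]⟩)
      (hp' fun k hk => ⟨by rw [h'.ef k (by omega) m hm, if_neg (hne k hk)], h'.ff k (by omega) m hm⟩)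
    refine ⟨g1 * g0, fun i hi => ?_⟩
    rw [act_mul, act_mul]
    rcases Nat.lt_succ_iff_lt_or_eq.1 hi with h4 | rfl
    · obtain ⟨⟨a, ha, ha'⟩, b, hb, hb'⟩ := hg0 i h4
      refine ⟨⟨a, ha, ?_⟩, b, hb, ?_⟩
      · rw [ha', act_smul, h3 _ ⟨i, h4, Or.inl rfl⟩]
      · rw [hb', act_smul, h3 _ ⟨i, h4, Or.inr rfl⟩]
    · exact ⟨⟨c, hc, h1⟩, d, hd, h2⟩

end Cfsg.Agent.KFacts.TwFrame.UTrans
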