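import Cfsg.Agent.OddHalf.D7Out.TwFrame
import Cfsg.Agent.KFacts.TwFrame.UTrans
import Cfsg.Agent.KFacts.TwFrame.Syl
import Cfsg.Agent.KFacts.Unit.Cent
import Cfsg.Agent.KFacts.Unit.Flag

/-!
# `FrameFact` for `PSU n F q`, `q` even

`frm hF h`: the transvection groups of the isotropic points of a frame `h : Flag.Fr q m e f`. `frameFact`:
`FrameFact (frm hF h) U` with `U` the image of the Sylow 2-subgroup `pr (QS q e f) m`. `map_QS`: an automorphism
which fixes the members of the frame fixes the images of the `QS q e f j`.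
-/

set_option autoImplicit false

namespace Cfsg.Agent.KFacts.TwFrame.UFrame

open Cfsg Cfsg.Agent.LieClassical.HermBasic Cfsg.Agent.LieClassical.HermSiegel
  Cfsg.Agent.LieClassical.HermGen Cfsg.Agent.LieClassical.SUBasic Matrix
  Cfsg.Agent.ClassicalGeometry.PSUAutBasic Cfsg.Agent.ClassicalGeometry.PSUAutSylow
  Cfsg.Agent.ClassicalGeometry.PSUAutUnip Cfsg.Agent.KFacts.Unit Cfsg.Agent.KFacts.Unit.Flag
  Cfsg.Agent.OddHalf.D7.Uni Cfsg.Agent.OddHalf.D7Out

open Cfsg.Agent.ClassicalGeometry.PSUAutCount (gm semiConj toAut act_semiConj)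
open Cfsg.Agent.ClassicalGeometry.PSUAutMain (toAut_pr' toAut_RR exists_toAut)

variable {F : Type*} [Field F] [Fintype F] {q n m : ℕ} {e f : ℕ → Fin n → F}

/-- The transvection groups of the frame. -/
def frm (hF : Fintype.card F = q ^ 2) (h : Fr q m e f) : Fin m × Bool → Subgroup (PSU n F q) :=
  fun i => if i.2 then RR hF (e i.1) (h.ee i.1 i.1.2 i.1 i.1.2) else RR hF (f i.1) (h.ff i.1 i.1.2 i.1 i.1.2)

theorem frm_e (hF : Fintype.card F = q ^ 2) (h : Fr q m e f) {i : ℕ} (hi : i < m) :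
    frm hF h (⟨i, hi⟩, true) = RR hF (e i) (h.ee i hi i hi) := rfl

theorem frm_f (hF : Fintype.card F = q ^ 2) (h : Fr q m e f) {i : ℕ} (hi : i < m) :
    frm hF h (⟨i, hi⟩, false) = RR hF (f i) (h.ff i hi i hi) := rfl

theorem fne (h : Fr q m e f) {j : ℕ} (hj : j < m) : f j ≠ 0 := by
  intro h0
  have h1 := h.fe j hj j hj
  rw [h0, herm_zero_left, if_pos rfl] at h1
  exact zero_ne_one h1

theorem forall_frm {hF : Fintype.card F = q ^ 2} {h : Fr q m e f} {P : Fin m × Bool → Prop} :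
    (∀ i, P i) ↔ ∀ (i : ℕ) (hi : i < m), P (⟨i, hi⟩, true) ∧ P (⟨i, hi⟩, false) := by
  constructor
  · intro h i hi
    exact ⟨h _, h _⟩
  · rintro h ⟨⟨i, hi⟩, b⟩
    cases b
    · exact (h i hi).2
    · exact (h i hi).1

/-- An automorphism mapping the group of `u` into itself. -/
theorem scal_of_fix (hF : Fintype.card F = q ^ 2) (hn : 3 ≤ n) (A : GU n F q) (ρ : F ≃+* F) {u : Fin n → F}
    (hu0 : u ≠ 0) (hu : hermForm n F q u u = 0) (hα : ∀ x ∈ RR hF u hu, toAut A ρ x ∈ RR hF u hu) :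
    ∃ c : F, c ≠ 0 ∧ sg A ρ u = c • u := by
  have hsu : hermForm n F q (sg A ρ u) (sg A ρ u) = 0 := by rw [herm_sg, hu, map_zero]
  have h1 : (RR hF u hu).map (toAut A ρ : MulAut (PSU n F q)).toMonoidHom = RR hF (sg A ρ u) hsu := by
    ext x
    constructor
    · rintro ⟨y, hy, rfl⟩
      exact (toAut_RR hF A ρ hu hsu rfl y).1 hy
    · intro hx
      refine ⟨(toAut A ρ).symm x, (toAut_RR hF A ρ hu hsu rfl _).2 ?_, ?_⟩
      · rw [MulEquiv.apply_symm_apply]; exact hx
      · exact MulEquiv.apply_symm_apply _ _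
  have h2 : (RR hF u hu).map (toAut A ρ : MulAut (PSU n F q)).toMonoidHom ≤ RR hF u hu := by
    rintro _ ⟨y, hy, rfl⟩
    exact hα y hy
  have h3 : (RR hF u hu).map (toAut A ρ : MulAut (PSU n F q)).toMonoidHom = RR hF u hu :=
    Subgroup.eq_of_le_of_card_ge h2 (by
      rw [Subgroup.card_map_of_injective (MulEquiv.injective _)])
  exact (RR_eq_iff hF hn hu0 (fun h0 => hu0 (sg_eq_zero A ρ h0)) hu hsu).1 (h3.symm.trans h1)

/-- The semi-isometry of an automorphism fixing the members of the frame. -/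
theorem scal_frm (hF : Fintype.card F = q ^ 2) (hn : 3 ≤ n) (h : Fr q m e f) (A : GU n F q) (ρ : F ≃+* F)
    (hα : ∀ i, ∀ x ∈ frm hF h i, toAut A ρ x ∈ frm hF h i) {i : ℕ} (hi : i < m) :
    (∃ c : F, c ≠ 0 ∧ sg A ρ (e i) = c • e i) ∧ ∃ c : F, c ≠ 0 ∧ sg A ρ (f i) = c • f i :=
  ⟨scal_of_fix hF hn A ρ (h.ne_zero hi) _ (hα (⟨i, hi⟩, true)),
    scal_of_fix hF hn A ρ (fne h hi) _ (hα (⟨i, hi⟩, false))⟩

omit [Fintype F] in
theorem act_semi_fix {A : GU n F q} {ρ : F ≃+* F} {g : SU n F q} {u : Fin n → F} {c : F} (hc : c ≠ 0)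
    (hu : sg A ρ u = c • u) (hg : act g u = u) : act (semiConj A ρ g) u = u := by
  have h1 : act (semiConj A ρ g) (sg A ρ u) = sg A ρ (act g u) := act_semiConj A ρ g u
  rw [hg, hu, act_smul] at h1
  have h2 := congrArg (fun v => c⁻¹ • v) h1
  simpa only [smul_smul, inv_mul_cancel₀ hc, one_smul] using h2

/-- The groups `QS j` are invariant. -/
theorem semi_QS (h : Fr q m e f) {A : GU n F q} {ρ : F ≃+* F}
    (hs : ∀ i < m, (∃ c : F, c ≠ 0 ∧ sg A ρ (e i) = c • e i) ∧ ∃ c : F, c ≠ 0 ∧ sg A ρ (f i) = c • f i)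
    {j : ℕ} (hj : j < m) {g : SU n F q} (hg : g ∈ QS q e f j) : semiConj A ρ g ∈ QS q e f j := by
  rw [QS, Subgroup.mem_inf, mem_QA, mem_fixF] at hg ⊢
  obtain ⟨⟨hg1, hg2⟩, hg3⟩ := hg
  obtain ⟨c, hc, hce⟩ := (hs j hj).1
  refine ⟨⟨act_semi_fix hc hce hg1, fun w hw => ?_⟩, fun i hi => ?_⟩
  · obtain ⟨y, rfl⟩ := exists_sg A ρ w
    have h0 : hermForm n F q y (e j) = 0 := by
      have h1 := herm_sg A ρ y (e j)
      rw [hce, herm_smul_right, hw, mul_zero] at h1
      exact (map_eq_zero ρ).1 h1.symm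
    obtain ⟨d, hd⟩ := hg2 y h0
    have h1 : act (semiConj A ρ g) (sg A ρ y) = sg A ρ (act g y) := act_semiConj A ρ g y
    have h2 : act g y = y + d • e j := by rw [← hd]; abel
    refine ⟨ρ d * c, ?_⟩
    rw [h1, h2, sg_add, sg_smul, hce, smul_smul]
    abel
  · obtain ⟨⟨a, ha, hae⟩, b, hb, hbf⟩ := hs i (by omega)
    exact ⟨act_semi_fix ha hae (hg3 i hi).1, act_semi_fix hb hbf (hg3 i hi).2⟩

/-- **Invariance of the images of `QS j`** under the stabiliser of the frame in the automorphism group. -/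
theorem map_QS (hF : Fintype.card F = q ^ 2) (hn : 3 ≤ n) (h32 : ¬ (n = 3 ∧ q = 2)) (h : Fr q m e f)
    {α : MulAut (PSU n F q)} (hα : ∀ i, ∀ x ∈ frm hF h i, α x ∈ frm hF h i) {j : ℕ} (hj : j < m) :
    ∀ x ∈ (QS q e f j).map (pr n F q), α x ∈ (QS q e f j).map (pr n F q) := by
  obtain ⟨A, ρ, rfl⟩ := exists_toAut hF hn h32 α
  rintro _ ⟨g, hg, rfl⟩
  rw [toAut_pr']
  exact ⟨_, semi_QS h (fun i hi => scal_frm hF hn h A ρ hα hi) hj hg, rfl⟩

/-- Invariance of the Sylow 2-subgroup. -/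
theorem map_pr (hF : Fintype.card F = q ^ 2) (hn : 3 ≤ n) (h32 : ¬ (n = 3 ∧ q = 2)) (h : Fr q m e f)
    {α : MulAut (PSU n F q)} (hα : ∀ i, ∀ x ∈ frm hF h i, α x ∈ frm hF h i) {j : ℕ} (hj : j ≤ m) :
    ∀ x ∈ (Chain.pr (QS q e f) j).map (pr n F q), α x ∈ (Chain.pr (QS q e f) j).map (pr n F q) := by
  have h1 : (Chain.pr (QS q e f) j).map (pr n F q) ≤
      ((Chain.pr (QS q e f) j).map (pr n F q)).comap α.toMonoidHom := by
    rw [Subgroup.map_le_iff_le_comap]
    refine Chain.pr_le fun i hi => ?_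
    intro g hg
    have h2 := map_QS hF hn h32 h hα (j := i) (by omega) _ ⟨g, hg, rfl⟩
    exact Subgroup.map_mono (Chain.le_pr (QS q e f) hi) h2
  exact fun x hx => h1 hx

/-- An element of `SU` fixing a point normalises its group. -/
theorem conj_RR (hF : Fintype.card F = q ^ 2) {u : Fin n → F} (hu : hermForm n F q u u = 0) {g : SU n F q} {c : F}
    (hc : c ≠ 0) (hg : act g u = c • u) {x : PSU n F q} (hx : x ∈ RR hF u hu) :
    pr n F q g * x * (pr n F q g)⁻¹ ∈ RR hF u hu := by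
  have h1 : hermForm n F q (act g u) (act g u) = 0 := by rw [herm_act]; exact hu
  have h2 : hermForm n F q (c • u) (c • u) = 0 := by rw [← hg]; exact h1
  rw [← RR_le hF hu hc h2, ← RR_congr hF h1 h2 hg, RR_conj hF hu]
  have h3 : (pr n F q g)⁻¹ * (pr n F q g * x * (pr n F q g)⁻¹) * pr n F q g = x := by group
  rw [h3]
  exact hx

/-- **`FrameFact` for the unitary groups.** -/
theorem frameFact [CharP F 2] (hF : Fintype.card F = q ^ 2) (hn : 3 ≤ n) (h32 : ¬ (n = 3 ∧ q = 2))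
    (h : Fr q m e f) :
    TwFrame.FrameFact (frm hF h) ((Chain.pr (QS q e f) m).map (pr n F q)) := by
  have hodd : Odd ((Chain.pr (QS q e f) m).map (pr n F q)).index := by
    obtain ⟨k, hk⟩ := Subgroup.index_map_dvd (Chain.pr (QS q e f) m) (f := pr n F q) pr_surjective
    have h1 := odd_index hF h
    rw [hk, Nat.odd_mul] at h1
    exact h1.1
  have hpU : IsPGroup 2 ↥((Chain.pr (QS q e f) m).map (pr n F q)) := (isPGroup_pr hF h le_rfl).map _
  have hfix : ∀ α : MulAut (PSU n F q), (∀ i, ∀ x ∈ frm hF h i, α x ∈ frm hF h i) →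
      ∀ u ∈ (Chain.pr (QS q e f) m).map (pr n F q), α u ∈ (Chain.pr (QS q e f) m).map (pr n F q) :=
    fun α hα => map_pr hF hn h32 h hα le_rfl
  refine ⟨hpU, fun P hP hle => Syl.le_of_odd hodd hP hle, ?_, ?_, hfix⟩
  · -- transitivity
    intro α
    obtain ⟨A, ρ, rfl⟩ := exists_toAut hF hn h32 α
    have hfl : UTrans.Fl q m e f := ⟨h.ee, h.ff, h.ef⟩
    have hfl' : UTrans.Fl q m (fun i => sg A ρ (e i)) (fun i => sg A ρ (f i)) := by
      refine ⟨fun i hi j hj => ?_, fun i hi j hj => ?_, fun i hi j hj => ?_⟩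
      · show hermForm n F q (sg A ρ (e i)) (sg A ρ (e j)) = 0
        rw [herm_sg, h.ee i hi j hj, map_zero]
      · show hermForm n F q (sg A ρ (f i)) (sg A ρ (f j)) = 0
        rw [herm_sg, h.ff i hi j hj, map_zero]
      · show hermForm n F q (sg A ρ (e i)) (sg A ρ (f j)) = _
        rw [herm_sg, h.ef i hi j hj]
        split_ifs
        · exact map_one ρ
        · exact map_zero ρ
    obtain ⟨g, hg⟩ := UTrans.trans_points hF m hfl hfl'
    have key : ∀ {u : Fin n → F} (hu : hermForm n F q u u = 0) {c : F}, c ≠ 0 → act g u = c • sg A ρ u →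
        ∀ x ∈ RR hF u hu, (pr n F q g)⁻¹ * toAut A ρ x * pr n F q g ∈ RR hF u hu := by
      intro u hu c hc hgu x hx
      have hsu : hermForm n F q (sg A ρ u) (sg A ρ u) = 0 := by rw [herm_sg, hu, map_zero]
      have h1 : hermForm n F q (act g u) (act g u) = 0 := by rw [herm_act]; exact hu
      have h2 : hermForm n F q (c • sg A ρ u) (c • sg A ρ u) = 0 := by rw [← hgu]; exact h1
      rw [← RR_conj hF hu g h1, RR_congr hF h1 h2 hgu, RR_le hF hsu hc h2]
      exact (toAut_RR hF A ρ hu hsu rfl x).1 hx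
    refine ⟨pr n F q g, ?_⟩
    rintro ⟨⟨i, hi⟩, b⟩ x hx
    obtain ⟨⟨c, hc, hge⟩, d, hd, hgf⟩ := hg i hi
    cases b
    · exact key (h.ff i hi i hi) hd hgf x hx
    · exact key (h.ee i hi i hi) hc hge x hx
  · -- odd order
    intro x hx hxx
    have h1 : ∀ i, ∀ y ∈ frm hF h i, MulAut.conj x y ∈ frm hF h i := fun i y hy => by
      rw [MulAut.conj_apply]; exact hx i y hy
    have h2 : x ∈ (Chain.pr (QS q e f) m).map (pr n F q) := by
      have h3 := Syl.mem_of_norm (j := MonoidHom.id (PSU n F q)) (fun _ _ h => h) hodd hpU (x := x)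
        ⟨x, rfl⟩ hxx (by
          rw [Subgroup.map_id]
          intro u hu
          have := hfix _ h1 u hu
          rwa [MulAut.conj_apply] at this)
      rwa [Subgroup.map_id] at h3
    obtain ⟨g, hg, rfl⟩ := h2
    obtain ⟨k, hk⟩ : ∃ k : ℕ, g ^ 2 ^ k = 1 := by
      obtain ⟨k, hk⟩ := isPGroup_pr hF h le_rfl ⟨g, hg⟩
      exact ⟨k, congrArg Subtype.val hk⟩
    have key : ∀ {u : Fin n → F} (hu0 : u ≠ 0) (hu : hermForm n F q u u = 0),
        (∀ y ∈ RR hF u hu, pr n F q g * y * (pr n F q g)⁻¹ ∈ RR hF u hu) → act g u = u := by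
      intro u hu0 hu hy
      have hgu : hermForm n F q (act g u) (act g u) = 0 := by rw [herm_act]; exact hu
      have h4 : RR hF u hu = RR hF (act g u) hgu := by
        have h5 : (RR hF u hu).map (MulAut.conj (pr n F q g)).toMonoidHom = RR hF (act g u) hgu := by
          ext z
          rw [RR_conj hF hu]
          constructor
          · rintro ⟨y, hy, rfl⟩
            have h6 : (pr n F q g)⁻¹ * (MulAut.conj (pr n F q g)).toMonoidHom y * pr n F q g = y := by
              show (pr n F q g)⁻¹ * (pr n F q g * y * (pr n F q g)⁻¹) * pr n F q g = y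
              group
            rw [h6]
            exact hy
          · intro hz
            refine ⟨_, hz, ?_⟩
            show pr n F q g * ((pr n F q g)⁻¹ * z * pr n F q g) * (pr n F q g)⁻¹ = z
            group
        rw [← h5]
        refine (Subgroup.eq_of_le_of_card_ge ?_ ?_).symm
        · rintro _ ⟨y, hy', rfl⟩
          exact hy y hy'
        · rw [Subgroup.card_map_of_injective (MulEquiv.injective _)]
      obtain ⟨c, hc, hcu⟩ := (RR_eq_iff hF hn hu0 (fun h0 => hu0 (by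
        rw [← act_inv_act g u, h0, act_zero])) hu hgu).1 h4
      have h5 : ∀ l : ℕ, act (g ^ l) u = c ^ l • u := by
        intro l
        induction l with
        | zero => rw [pow_zero, pow_zero, act_one, one_smul]
        | succ l ih => rw [pow_succ, act_mul, hcu, act_smul, ih, smul_smul, pow_succ']
      have h6 := h5 (2 ^ k)
      rw [hk, act_one] at h6
      have h7 : c ^ 2 ^ k = 1 := by
        have h8 : (c ^ 2 ^ k - 1) • u = 0 := by rw [sub_smul, ← h6, one_smul, sub_self]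
        rcases smul_eq_zero.1 h8 with h9 | h9
        · exact sub_eq_zero.1 h9
        · exact absurd h9 hu0
      have h8 : c = 1 := by
        have h9 : (c - 1) ^ 2 ^ k = 0 := by
          rw [sub_pow_char_pow, h7, one_pow, sub_self]
        exact sub_eq_zero.1 (pow_eq_zero_iff (by positivity) |>.1 h9)
      rw [hcu, h8, one_smul]
    have h3 : g = 1 := h.top g ⟨k, hk⟩ fun i hi =>
      ⟨key (h.ne_zero hi) (h.ee i hi i hi) (hx (⟨i, hi⟩, true)),
        key (fne h hi) (h.ff i hi i hi) (hx (⟨i, hi⟩, false))⟩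
    rw [h3, map_one]

end Cfsg.Agent.KFacts.TwFrame.UFrame
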